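import Groth.Agent.Omega.LiftMod
import Groth.Prelude.Def_FSch2
import Mathlib.RingTheory.Smooth.Basic
import Mathlib.AlgebraicGeometry.Morphisms.Smooth

/-!
# Formal liftings of affine smooth schemes over a completion
-/

set_option autoImplicit false

universe u

open CategoryTheory CategoryTheory.Limits AlgebraicGeometry

namespace Groth.Agent.FSchLift

/-- Base change of a quotient. -/
theorem isPushout_quotient {A B : Type u} [CommRing A] [CommRing B] (φ : A →+* B) (I : Ideal A) :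
    IsPushout (CommRingCat.ofHom φ) (CommRingCat.ofHom (Ideal.Quotient.mk I))
      (CommRingCat.ofHom (Ideal.Quotient.mk (I.map φ)))
      (CommRingCat.ofHom (Ideal.quotientMap (I.map φ) φ Ideal.le_comap_map)) := by
  refine ⟨⟨by ext a; rfl⟩, ⟨PushoutCocone.IsColimit.mk _
    (fun s => CommRingCat.ofHom (Ideal.Quotient.lift (I.map φ) s.inl.hom fun b hb => ?_))
    (fun s => ?_) (fun s => ?_) fun s m h1 _ => ?_⟩⟩
  · refine (Ideal.map_le_iff_le_comap (K := RingHom.ker s.inl.hom)).2 (fun a ha => ?_) hb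
    have h := congrArg (fun k => k.hom a) s.condition
    show s.inl.hom (φ a) = 0
    exact h.trans ((congrArg s.inr.hom (Ideal.Quotient.eq_zero_iff_mem.2 ha)).trans (map_zero _))
  · ext b; rfl
  · ext a
    exact congrArg (fun k => k.hom a) s.condition
  · ext b
    exact congrArg (fun k => k.hom b) h1

section Ring

variable {A : Type u} [CommRing A] {B C : Type u} [CommRing B] [Algebra A B] [CommRing C] [Algebra A C]
  (K : Ideal C)

/-- The transition map of truncations. -/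
def trunc (n : ℕ) : C ⧸ K ^ (n + 1 + 1) →ₐ[A] C ⧸ K ^ (n + 1) :=
  Ideal.Quotient.factorₐ A (Ideal.pow_le_pow_right (Nat.le_succ (n + 1)))

theorem trunc_surjective (n : ℕ) : Function.Surjective (trunc (A := A) K n) :=
  Ideal.Quotient.factor_surjective (S := K ^ (n + 1 + 1)) (T := K ^ (n + 1))
    (Ideal.pow_le_pow_right (Nat.le_succ (n + 1)))

theorem isNilpotent_ker_trunc (n : ℕ) :
    IsNilpotent (RingHom.ker (trunc (A := A) K n : C ⧸ K ^ (n + 1 + 1) →+* C ⧸ K ^ (n + 1))) := by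
  refine ⟨2, ?_⟩
  have hle : RingHom.ker (trunc (A := A) K n : C ⧸ K ^ (n + 1 + 1) →+* C ⧸ K ^ (n + 1)) ≤
      (K ^ (n + 1)).map (Ideal.Quotient.mk (K ^ (n + 1 + 1))) := by
    intro x hx
    obtain ⟨c, rfl⟩ := Ideal.Quotient.mk_surjective x
    exact Ideal.mem_map_of_mem _ (Ideal.Quotient.eq_zero_iff_mem.1 (RingHom.mem_ker.1 hx))
  refine bot_unique ((Ideal.pow_right_mono hle 2).trans ?_)
  rw [← Ideal.map_pow, Ideal.map_le_iff_le_comap, ← pow_mul]
  refine (Ideal.pow_le_pow_right (m := n + 1 + 1) (n := (n + 1) * 2) (by omega)).trans ?_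
  intro x hx
  exact Ideal.Quotient.eq_zero_iff_mem.2 hx

variable [Algebra.FormallySmooth A B]

/-- Successive lifts. -/
noncomputable def lifts (ψ₀ : B →ₐ[A] C ⧸ K ^ (0 + 1)) : ∀ n : ℕ, B →ₐ[A] C ⧸ K ^ (n + 1)
  | 0 => ψ₀
  | n + 1 => Algebra.FormallySmooth.liftOfSurjective (lifts ψ₀ n) (trunc K n) (trunc_surjective K n)
      (isNilpotent_ker_trunc K n)

/-- Compatible lifts of a point of a smooth algebra modulo an ideal to all powers of the ideal. -/
theorem exists_lifts (ψ₀ : B →ₐ[A] C ⧸ K ^ (0 + 1)) :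
    ∃ ψ : ∀ n : ℕ, B →ₐ[A] C ⧸ K ^ (n + 1), ψ 0 = ψ₀ ∧
      ∀ n b, Ideal.Quotient.factor (Ideal.pow_le_pow_right (show n + 1 ≤ n + 1 + 1 by omega)) (ψ (n + 1) b) = ψ n b := by
  refine ⟨lifts K ψ₀, by rw [lifts], fun n b => ?_⟩
  have h := Algebra.FormallySmooth.liftOfSurjective_apply (lifts K ψ₀ n) (trunc (A := A) K n) (trunc_surjective (A := A) K n)
    (isNilpotent_ker_trunc (A := A) K n) b
  rw [lifts]
  exact h

end Ring

section Affine

variable {S : Scheme.{u}} (𝒥 : S.IdealSheafData) (W : S.affineOpens)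

/-- The chart of a level of the completion. -/
noncomputable def jA (n : ℕ) :
    Spec (CommRingCat.of (Γ(S, W.1) ⧸ 𝒥.ideal W ^ (n + 1))) ⟶ (FSch.completionAlong S 𝒥).X n :=
  (𝒥 ^ (n + 1)).subschemeCover.f W

instance isOpenImmersion_jA (n : ℕ) : IsOpenImmersion (jA 𝒥 W n) :=
  inferInstanceAs (IsOpenImmersion ((𝒥 ^ (n + 1)).subschemeCover.openCover.f W))

instance mono_completionToX (n : ℕ) : Mono (FSch.completionToX S 𝒥 n) :=
  inferInstanceAs (Mono (𝒥 ^ (n + 1)).subschemeι)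

theorem jA_subschemeι (n : ℕ) :
    jA 𝒥 W n ≫ FSch.completionToX S 𝒥 n = CohB1.specQuot (𝒥.ideal W) n ≫ W.2.fromSpec :=
  ((𝒥 ^ (n + 1)).subschemeCover_map_subschemeι W).trans ((𝒥 ^ (n + 1)).glueDataObjι_ι W)

theorem isPullback_jA (n : ℕ) :
    IsPullback (CohB1.specQuot (𝒥.ideal W) n) (jA 𝒥 W n) W.2.fromSpec (FSch.completionToX S 𝒥 n) :=
  IsOpenImmersion.isPullback _ _ _ _ (jA_subschemeι 𝒥 W n) (by
    rw [IsAffineOpen.opensRange_fromSpec]
    exact ((𝒥 ^ (n + 1)).opensRange_subschemeCover_map W).symm)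

theorem ι_toX (n : ℕ) :
    (FSch.completionAlong S 𝒥).ι n ≫ FSch.completionToX S 𝒥 (n + 1) = FSch.completionToX S 𝒥 n :=
  Scheme.IdealSheafData.inclusion_subschemeι _

variable {C : Type u} [CommRing C] (α : Γ(S, W.1) →+* C)

/-- The extended ideal. -/
abbrev idl : Ideal C := (𝒥.ideal W).map α

theorem pow_le_comap (n : ℕ) : 𝒥.ideal W ^ n ≤ (idl 𝒥 W α ^ n).comap α := by
  rw [idl, ← Ideal.map_pow]
  exact Ideal.le_comap_map

/-- The structure map of a level. -/
def levelRing (n : ℕ) : (Γ(S, W.1) ⧸ 𝒥.ideal W ^ (n + 1)) →+* C ⧸ idl 𝒥 W α ^ (n + 1) :=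
  Ideal.quotientMap _ α (pow_le_comap 𝒥 W α (n + 1))

/-- The structure morphism of the lifted system. -/
noncomputable def levelHom (n : ℕ) :
    (FSch.spf C (idl 𝒥 W α)).X n ⟶ (FSch.completionAlong S 𝒥).X n :=
  Spec.map (CommRingCat.ofHom (levelRing 𝒥 W α n)) ≫ jA 𝒥 W n

theorem levelHom_toX (n : ℕ) :
    levelHom 𝒥 W α n ≫ FSch.completionToX S 𝒥 n =
      CohB1.specQuot (idl 𝒥 W α) n ≫ Spec.map (CommRingCat.ofHom α) ≫ W.2.fromSpec := by
  rw [levelHom, Category.assoc, jA_subschemeι, ← Category.assoc, ← Category.assoc]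
  congr 1
  refine ((Spec.map_comp _ _).symm.trans ?_).trans (Spec.map_comp _ _)
  rfl

/-- The lifted system over the completion. -/
noncomputable def toCompletion : FSch.spf C (idl 𝒥 W α) ⟶ FSch.completionAlong S 𝒥 where
  app := levelHom 𝒥 W α
  comm n := by
    rw [← cancel_mono (FSch.completionToX S 𝒥 (n + 1)), Category.assoc, Category.assoc]
    rw [ι_toX, levelHom_toX]
    erw [levelHom_toX]
    rw [← Category.assoc]
    refine (congrArg (· ≫ Spec.map (CommRingCat.ofHom α) ≫ W.2.fromSpec)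
      (CohB1.specQuotTrans_specQuot (idl 𝒥 W α) n)).symm.trans ?_
    simp only [Category.assoc]
    rfl

theorem isPullback_level (n : ℕ) :
    IsPullback (CohB1.specQuot (idl 𝒥 W α) n) (levelHom 𝒥 W α n)
      (Spec.map (CommRingCat.ofHom α) ≫ W.2.fromSpec) (FSch.completionToX S 𝒥 n) := by
  have h : IsPullback (CohB1.specQuot (idl 𝒥 W α) n) (Spec.map (CommRingCat.ofHom (levelRing 𝒥 W α n)))
      (Spec.map (CommRingCat.ofHom α)) (CohB1.specQuot (𝒥.ideal W) n) := by
    have hp := isPushout_quotient α (𝒥.ideal W ^ (n + 1))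
    have e : (𝒥.ideal W ^ (n + 1)).map α = idl 𝒥 W α ^ (n + 1) := Ideal.map_pow _ _ _
    have h1 := isPullback_SpecMap_of_isPushout _ _ _ _ hp
    let E := Ideal.quotEquivOfEq e
    refine h1.of_iso (Scheme.Spec.mapIso (RingEquiv.toCommRingCatIso E.symm).op) (Iso.refl _) (Iso.refl _)
      (Iso.refl _) ?_ ?_ ?_ ?_
    · simp only [Iso.refl_hom, Category.comp_id, CohB1.specQuot]
      change _ = Spec.map _ ≫ Spec.map _
      rw [← Spec.map_comp]
      congr 1
    · simp only [Iso.refl_hom, Category.comp_id]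
      change _ = Spec.map _ ≫ Spec.map _
      rw [← Spec.map_comp]
      congr 1
      refine CommRingCat.hom_ext (Ideal.Quotient.ringHom_ext (RingHom.ext fun a => ?_))
      rfl
    · simp
    · simp [CohB1.specQuot]
  exact h.paste_vert (isPullback_jA 𝒥 W n)

theorem isAdicHom : FSch.IsAdicHom (toCompletion 𝒥 W α) := fun n => by
  refine IsPullback.of_right ?_ (FSch.Hom.comm (toCompletion 𝒥 W α) n).symm
    (isPullback_level 𝒥 W α (n + 1))
  have e1 : (FSch.spf C (idl 𝒥 W α)).ι n ≫ CohB1.specQuot (idl 𝒥 W α) (n + 1) = CohB1.specQuot (idl 𝒥 W α) n :=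
    CohB1.specQuotTrans_specQuot _ n
  have e2 := ι_toX 𝒥 n
  rw [e1, e2]
  exact isPullback_level 𝒥 W α n

theorem smooth_level (hα : α.Smooth) (n : ℕ) :
    AlgebraicGeometry.Smooth ((toCompletion 𝒥 W α : FSch.Hom _ _).app n) := by
  have h : AlgebraicGeometry.Smooth (Spec.map (CommRingCat.ofHom α)) :=
    (HasRingHomProperty.Spec_iff (P := @AlgebraicGeometry.Smooth)).2 hα
  exact MorphismProperty.of_isPullback (P := @AlgebraicGeometry.Smooth) (isPullback_level 𝒥 W α n) inferInstance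

/-- A compatible family of algebra maps gives a morphism of systems. -/
theorem exists_hom {B : Type u} [CommRing B] (β : Γ(S, W.1) →+* B)
    (ψ : ∀ n, B →+* C ⧸ idl 𝒥 W α ^ (n + 1))
    (hψ : ∀ n, (ψ n).comp β = (Ideal.Quotient.mk _).comp α)
    (hc : ∀ n b, Ideal.Quotient.factor (Ideal.pow_le_pow_right (show n + 1 ≤ n + 1 + 1 by omega)) (ψ (n + 1) b) = ψ n b) :
    ∃ Φ : FSch.spf C (idl 𝒥 W α) ⟶ FSch.spf B (idl 𝒥 W β),
      Φ ≫ toCompletion 𝒥 W β = toCompletion 𝒥 W α ∧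
        (Φ : FSch.Hom _ _).app 0 ≫ CohB1.specQuot (idl 𝒥 W β) 0 = Spec.map (CommRingCat.ofHom (ψ 0)) := by
  have hle : ∀ n, ∀ x ∈ idl 𝒥 W β ^ (n + 1), ψ n x = 0 := fun n x hx => by
    rw [idl, ← Ideal.map_pow] at hx
    refine (Ideal.map_le_iff_le_comap (K := RingHom.ker (ψ n))).2 (fun a ha => ?_) hx
    rw [Ideal.mem_comap, RingHom.mem_ker, ← RingHom.comp_apply, hψ n]
    exact Ideal.Quotient.eq_zero_iff_mem.2 (pow_le_comap 𝒥 W α (n + 1) ha)
  refine ⟨⟨fun n => Spec.map (CommRingCat.ofHom (Ideal.Quotient.lift _ (ψ n) (hle n))), fun n => ?_⟩, ?_, ?_⟩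
  · change _ ≫ CohB1.specQuotTrans _ n = CohB1.specQuotTrans _ n ≫ _
    simp only [CohB1.specQuotTrans, ← Spec.map_comp, ← CommRingCat.ofHom_comp]
    congr 2
    refine Ideal.Quotient.ringHom_ext (RingHom.ext fun b => ?_)
    exact (hc n b).symm
  · refine FSch.Hom.ext (funext fun n => ?_)
    rw [← cancel_mono (FSch.completionToX S 𝒥 n)]
    change (Spec.map _ ≫ levelHom 𝒥 W β n) ≫ _ = levelHom 𝒥 W α n ≫ _
    rw [Category.assoc]
    erw [levelHom_toX, levelHom_toX]
    simp only [CohB1.specQuot, ← Category.assoc, ← Spec.map_comp, ← CommRingCat.ofHom_comp]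
    congr 3
    exact hψ n
  · change Spec.map _ ≫ Spec.map _ = _
    rw [← Spec.map_comp, ← CommRingCat.ofHom_comp, Ideal.Quotient.lift_comp_mk]

end Affine

end Groth.Agent.FSchLift
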