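import Groth.Prelude.Def_FSch4
import Groth.Agent.FEtCat.UnivHomeo

/-!
# Étale covers of an adic system are the finite étale covers of its smallest level
-/

set_option autoImplicit false

noncomputable section

universe u

open CategoryTheory CategoryTheory.Limits AlgebraicGeometry

namespace Groth.Agent.FSchLift.EtLevel

open Groth.Agent.FEtCat

/-- A surjective closed immersion induces an equivalence of categories of finite étale covers. -/
theorem isEquivalence_restrict_thickening {A B : Scheme.{u}} (i : A ⟶ B) [IsClosedImmersion i]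
    [Surjective i] : (FEt.restrict i).IsEquivalence :=
  UnivHomeo.isEquivalence_restrict i

/-- First projection of the base change of a morphism of finite étale covers. -/
theorem restrict_map_fst {A B : Scheme.{u}} (i : A ⟶ B) {U V : FEt.Cat B} (G : U ⟶ V) :
    ((FEt.restrict i).map G).left ≫ pullback.fst V.hom i = pullback.fst U.hom i ≫ G.left :=
  pullback.lift_fst _ _ _

/-- Second projection of the base change of a morphism of finite étale covers. -/
theorem restrict_map_snd {A B : Scheme.{u}} (i : A ⟶ B) {U V : FEt.Cat B} (G : U ⟶ V) :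
    ((FEt.restrict i).map G).left ≫ pullback.snd V.hom i = pullback.snd U.hom i :=
  MorphismProperty.Over.w _

section Step

variable {A B P Q P₀ Q₀ : Scheme.{u}} (i : A ⟶ B) [IsClosedImmersion i] [Surjective i]
  (p : P ⟶ B) [IsFinite p] [Etale p] (q : Q ⟶ B) [IsFinite q] [Etale q]
  {iP : P₀ ⟶ P} {p₀ : P₀ ⟶ A} {iQ : Q₀ ⟶ Q} {q₀ : Q₀ ⟶ A}

/-- Uniqueness of lifts of morphisms of finite étale covers along a thickening. -/
theorem ext_of_thickening (hP : IsPullback iP p₀ p i) {g g' : P ⟶ Q} (hg : g ≫ q = p) (hg' : g' ≫ q = p)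
    (h : iP ≫ g = iP ≫ g') : g = g' := by
  haveI := isEquivalence_restrict_thickening i
  have key : (Basic.homMk (Y := Basic.mk p) (Z := Basic.mk q) g hg) =
      Basic.homMk (Y := Basic.mk p) (Z := Basic.mk q) g' hg' := by
    refine (FEt.restrict i).map_injective (Basic.hom_ext ?_)
    have h' : pullback.fst p i ≫ g = pullback.fst p i ≫ g' := by
      rw [← hP.isoPullback_inv_fst, Category.assoc, Category.assoc, h]
    apply pullback.hom_ext
    · exact (restrict_map_fst i _).trans (h'.trans (restrict_map_fst i (Basic.homMk (Y := Basic.mk p) (Z := Basic.mk q) g' hg')).symm)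
    · exact (restrict_map_snd i _).trans (restrict_map_snd i _).symm
  exact congrArg (fun k : Basic.mk p ⟶ Basic.mk q => k.left) key

/-- Existence of lifts of morphisms of finite étale covers along a thickening. -/
theorem exists_of_thickening (hP : IsPullback iP p₀ p i) (hQ : IsPullback iQ q₀ q i) (g₀ : P₀ ⟶ Q₀)
    (hg₀ : g₀ ≫ q₀ = p₀) : ∃ g : P ⟶ Q, g ≫ q = p ∧ iP ≫ g = g₀ ≫ iQ := by
  haveI := isEquivalence_restrict_thickening i
  let t : pullback p i ⟶ pullback q i := hP.isoPullback.inv ≫ g₀ ≫ hQ.isoPullback.hom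
  have ht : t ≫ pullback.snd q i = pullback.snd p i := by
    simp only [t, Category.assoc, hQ.isoPullback_hom_snd, hg₀, hP.isoPullback_inv_snd]
  let T : (FEt.restrict i).obj (Basic.mk p) ⟶ (FEt.restrict i).obj (Basic.mk q) := Basic.homMk t ht
  let G := (FEt.restrict i).preimage T
  refine ⟨G.left, MorphismProperty.Over.w G, ?_⟩
  have h1 := restrict_map_fst i G
  rw [(FEt.restrict i).map_preimage T] at h1
  have h2 : t ≫ pullback.fst q i = pullback.fst p i ≫ G.left := h1
  calc iP ≫ G.left = hP.isoPullback.hom ≫ pullback.fst p i ≫ G.left := by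
        rw [← Category.assoc, hP.isoPullback_hom_fst]
    _ = hP.isoPullback.hom ≫ t ≫ pullback.fst q i := congrArg (hP.isoPullback.hom ≫ ·) h2.symm
    _ = g₀ ≫ iQ := by simp only [t, Category.assoc, Iso.hom_inv_id_assoc, hQ.isoPullback_hom_fst]

/-- Finite étale covers lift along a thickening. -/
theorem exists_lift_thickening (p₀' : P₀ ⟶ A) [IsFinite p₀'] [Etale p₀'] :
    ∃ (P' : Scheme.{u}) (p' : P' ⟶ B) (j : P₀ ⟶ P'), IsFinite p' ∧ Etale p' ∧ IsPullback j p₀' p' i := by
  haveI := isEquivalence_restrict_thickening i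
  let U := (FEt.restrict i).objPreimage (Basic.mk p₀')
  let e : (FEt.restrict i).obj U ≅ Basic.mk p₀' := (FEt.restrict i).objObjPreimageIso _
  let e₁ : pullback U.hom i ≅ P₀ :=
    (MorphismProperty.Over.forget FEt.prop.{u} ⊤ A ⋙ Over.forget A).mapIso e
  have he₁ : e₁.hom ≫ p₀' = pullback.snd U.hom i := MorphismProperty.Over.w e.hom
  refine ⟨U.left, U.hom, e₁.inv ≫ pullback.fst U.hom i, inferInstance, inferInstance, ?_⟩
  refine IsPullback.of_iso_pullback ⟨?_⟩ e₁.symm rfl ?_
  · rw [Category.assoc, pullback.condition, ← he₁, Category.assoc, Iso.inv_hom_id_assoc]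
  · rw [Iso.symm_hom, ← he₁, Iso.inv_hom_id_assoc]

end Step

variable {𝔛 : FSch.Sys.{u}}

/-- The stage data: a finite étale cover of level `n`. -/
structure Stage (𝔛 : FSch.Sys.{u}) (n : ℕ) : Type (u + 1) where
  carrier : Scheme.{u}
  hom : carrier ⟶ 𝔛.X n
  isFinite : IsFinite hom
  etale : Etale hom

theorem exists_next (hF : 𝔛.IsFormal) (n : ℕ) (S : Stage 𝔛 n) :
    ∃ (T : Stage 𝔛 (n + 1)) (j : S.carrier ⟶ T.carrier), IsPullback j S.hom T.hom (𝔛.ι n) := by
  haveI := (hF n).1
  haveI : Surjective (𝔛.ι n) := ⟨(hF n).2⟩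
  haveI := S.isFinite
  haveI := S.etale
  obtain ⟨P', p', j, h1, h2, h3⟩ := exists_lift_thickening (𝔛.ι n) S.hom
  exact ⟨⟨P', p', h1, h2⟩, j, h3⟩

/-- The lifted tower of a finite étale cover of level zero. -/
def tower (hF : 𝔛.IsFormal) (S : Stage 𝔛 0) : ∀ n, Stage 𝔛 n
  | 0 => S
  | n + 1 => (exists_next hF n (tower hF S n)).choose

/-- The system of the lifted tower. -/
def towerSys (hF : 𝔛.IsFormal) (S : Stage 𝔛 0) : FSch.Sys.{u} where
  X n := (tower hF S n).carrier
  ι n := (exists_next hF n (tower hF S n)).choose_spec.choose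

theorem isPullback_tower (hF : 𝔛.IsFormal) (S : Stage 𝔛 0) (n : ℕ) :
    IsPullback ((towerSys hF S).ι n) (tower hF S n).hom (tower hF S (n + 1)).hom (𝔛.ι n) :=
  (exists_next hF n (tower hF S n)).choose_spec.choose_spec

/-- The structure morphism of the lifted tower. -/
def towerHom (hF : 𝔛.IsFormal) (S : Stage 𝔛 0) : towerSys hF S ⟶ 𝔛 :=
  ({ app := fun n => (tower hF S n).hom
     comm := fun n => (isPullback_tower hF S n).w.symm } : FSch.Hom (towerSys hF S) 𝔛)

/-- **Étale covers of a formal system are the finite étale covers of its level zero.** -/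
theorem isEquivalence_level_zero (hF : 𝔛.IsFormal) : (FSch.EtCov.level 𝔛 0).IsEquivalence where
  faithful := ⟨fun {R R'} φ ψ h => by
    have hR := R.property
    have hR' := R'.property
    let a : FSch.Hom R.obj.left R'.obj.left := φ.hom.left
    let b : FSch.Hom R.obj.left R'.obj.left := ψ.hom.left
    let f : FSch.Hom R.obj.left 𝔛 := R.obj.hom
    let f' : FSch.Hom R'.obj.left 𝔛 := R'.obj.hom
    have wa : ∀ n, a.app n ≫ f'.app n = f.app n := fun n =>
      congrArg (fun k : FSch.Hom R.obj.left 𝔛 => k.app n) (Over.w φ.hom)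
    have wb : ∀ n, b.app n ≫ f'.app n = f.app n := fun n =>
      congrArg (fun k : FSch.Hom R.obj.left 𝔛 => k.app n) (Over.w ψ.hom)
    have h0 : a.app 0 = b.app 0 := congrArg (fun k => k.left) h
    have hn : ∀ n, a.app n = b.app n := by
      intro n
      induction n with
      | zero => exact h0
      | succ n ih =>
        haveI := (hF n).1
        haveI : Surjective (𝔛.ι n) := ⟨(hF n).2⟩
        haveI : IsFinite (f.app (n + 1)) := (hR.2 (n + 1)).1
        haveI : Etale (f.app (n + 1)) := (hR.2 (n + 1)).2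
        haveI : IsFinite (f'.app (n + 1)) := (hR'.2 (n + 1)).1
        haveI : Etale (f'.app (n + 1)) := (hR'.2 (n + 1)).2
        refine ext_of_thickening (𝔛.ι n) (f.app (n + 1)) (f'.app (n + 1)) (hR.1 n) (wa (n + 1)) (wb (n + 1)) ?_
        rw [← a.comm n, ← b.comm n, ih]
    exact ObjectProperty.hom_ext _ (Over.OverMorphism.ext (FSch.Hom.ext (funext hn)))⟩
  full := ⟨fun {R R'} α => by
    have hR := R.property
    have hR' := R'.property
    let f : FSch.Hom R.obj.left 𝔛 := R.obj.hom
    let f' : FSch.Hom R'.obj.left 𝔛 := R'.obj.hom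
    let L : ℕ → Type u := fun n => {g : R.obj.left.X n ⟶ R'.obj.left.X n // g ≫ f'.app n = f.app n}
    have step : ∀ n (g : L n), ∃ g' : L (n + 1), R.obj.left.ι n ≫ g'.1 = g.1 ≫ R'.obj.left.ι n := by
      intro n g
      haveI := (hF n).1
      haveI : Surjective (𝔛.ι n) := ⟨(hF n).2⟩
      haveI : IsFinite (f.app (n + 1)) := (hR.2 (n + 1)).1
      haveI : Etale (f.app (n + 1)) := (hR.2 (n + 1)).2
      haveI : IsFinite (f'.app (n + 1)) := (hR'.2 (n + 1)).1
      haveI : Etale (f'.app (n + 1)) := (hR'.2 (n + 1)).2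
      obtain ⟨g', h1, h2⟩ := exists_of_thickening (𝔛.ι n) (f.app (n + 1)) (f'.app (n + 1))
        (hR.1 n) (hR'.1 n) g.1 g.2
      exact ⟨⟨g', h1⟩, h2⟩
    let g₀ : L 0 := ⟨α.left, MorphismProperty.Over.w α⟩
    let g : ∀ n, L n := fun n => Nat.rec g₀ (fun n ih => (step n ih).choose) n
    have hg : ∀ n, R.obj.left.ι n ≫ (g (n + 1)).1 = (g n).1 ≫ R'.obj.left.ι n := fun n =>
      (step n (g n)).choose_spec
    let A : R.obj.left ⟶ R'.obj.left :=
      ({ app := fun n => (g n).1, comm := fun n => (hg n).symm } : FSch.Hom _ _)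
    refine ⟨ObjectProperty.homMk (Over.homMk A (FSch.Hom.ext (funext fun n => (g n).2))), ?_⟩
    exact Basic.hom_ext rfl⟩
  essSurj := ⟨fun U => by
    let S : Stage 𝔛 0 := ⟨U.left, U.hom, U.prop.1, U.prop.2⟩
    let R : FSch.EtCov 𝔛 := ⟨Over.mk (towerHom hF S),
      fun n => isPullback_tower hF S n, fun n => ⟨(tower hF S n).isFinite, (tower hF S n).etale⟩⟩
    let m : (FSch.EtCov.level 𝔛 0).obj R ⟶ U := Basic.homMk (𝟙 U.left) (Category.id_comp _)
    haveI : IsIso m.left := inferInstanceAs (IsIso (𝟙 U.left))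
    haveI := Basic.isIso_of_left m
    exact ⟨R, ⟨asIso m⟩⟩⟩

end Groth.Agent.FSchLift.EtLevel
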