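import Groth.Agent.FSchLift.Affine
import Mathlib.AlgebraicGeometry.AffineScheme

/-!
# Local smooth formal lifting of a morphism
-/

set_option autoImplicit false

universe u

open CategoryTheory CategoryTheory.Limits AlgebraicGeometry

namespace Groth.Agent.FSchLift

variable {S : Scheme.{u}} (𝒥 : S.IdealSheafData)

/-- An affine chart of a smooth scheme over the closed subscheme, with a smooth lift of its ring. -/
theorem exists_chart {X₀ : Scheme.{u}} (a : X₀ ⟶ (FSch.completionAlong S 𝒥).X 0) [AlgebraicGeometry.Smooth a]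
    (x : X₀) (O : X₀.Opens) (hxO : x ∈ O) (W : S.affineOpens)
    (hxW : (a ≫ FSch.completionToX S 𝒥 0) x ∈ W.1) :
    ∃ (U : X₀.Opens) (_ : IsAffineOpen U) (_ : x ∈ U) (_ : U ≤ O)
      (e : U ≤ (a ≫ FSch.completionToX S 𝒥 0) ⁻¹ᵁ W.1) (C : Type u) (_ : CommRing C)
      (α : Γ(S, W.1) →+* C) (_ : α.Smooth)
      (σ : Γ(X₀, U) ≅ CommRingCat.of (C ⧸ idl 𝒥 W α ^ (0 + 1))),
      (a ≫ FSch.completionToX S 𝒥 0).appLE W.1 U e ≫ σ.hom =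
        CommRingCat.ofHom ((Ideal.Quotient.mk _).comp α) := by
  set c := FSch.completionToX S 𝒥 0
  obtain ⟨U₁, hU₁, hxU₁, hle⟩ := exists_isAffineOpen_mem_and_subset
    (show x ∈ O ⊓ (a ≫ c) ⁻¹ᵁ W.1 from ⟨hxO, hxW⟩)
  have e₁ : U₁ ≤ (a ≫ c) ⁻¹ᵁ W.1 := fun z hz => (hle hz).2
  haveI : IsClosedImmersion c := inferInstanceAs (IsClosedImmersion (𝒥 ^ (0 + 1)).subschemeι)
  have hP : IsAffineOpen (c ⁻¹ᵁ W.1) := W.2.preimage c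
  have e₁' : U₁ ≤ a ⁻¹ᵁ (c ⁻¹ᵁ W.1) := e₁
  have hsm := AlgebraicGeometry.Smooth.smooth_appLE a hP hU₁ e₁'
  let I : Ideal Γ(S, W.1) := (𝒥 ^ (0 + 1)).ideal W
  have hI : I = 𝒥.ideal W ^ (0 + 1) := by
    show (𝒥 ^ (0 + 1)).ideal W = _
    simp [Scheme.IdealSheafData.ideal_pow]
  let g0 : CommRingCat.of (Γ(S, W.1) ⧸ I) ⟶ Γ(X₀, U₁) :=
    ((𝒥 ^ (0 + 1)).subschemeObjIso W).inv ≫ a.appLE (c ⁻¹ᵁ W.1) U₁ e₁'
  have hg0 : g0.hom.Smooth :=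
    (RingHom.Smooth.respectsIso).2 _ ((𝒥 ^ (0 + 1)).subschemeObjIso W).symm.commRingCatIsoToRingEquiv hsm
  have hfac : (a ≫ c).appLE W.1 U₁ e₁ = CommRingCat.ofHom (Ideal.Quotient.mk I) ≫ g0 := by
    rw [Scheme.Hom.comp_appLE]
    exact (congrArg (fun t => t ≫ a.appLE (c ⁻¹ᵁ W.1) U₁ e₁') ((𝒥 ^ (0 + 1)).subschemeι_app W)).trans
      (Category.assoc _ _ _)
  letI : Algebra (Γ(S, W.1) ⧸ I) Γ(X₀, U₁) := g0.hom.toAlgebra
  letI : Algebra Γ(S, W.1) Γ(X₀, U₁) := ((a ≫ c).appLE W.1 U₁ e₁).hom.toAlgebra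
  haveI : IsScalarTower Γ(S, W.1) (Γ(S, W.1) ⧸ I) Γ(X₀, U₁) := .of_algebraMap_eq' (by
    change ((a ≫ c).appLE W.1 U₁ e₁).hom = g0.hom.comp (Ideal.Quotient.mk I)
    rw [hfac]; rfl)
  haveI : Algebra.Smooth (Γ(S, W.1) ⧸ I) Γ(X₀, U₁) := hg0
  obtain ⟨g, hg, C, iC, iA, ψ, hsC, hψs, hψk⟩ :=
    Groth.Agent.Omega.LiftMod.exists_smooth I (hU₁.primeIdealOf ⟨x, hxU₁⟩).asIdeal
  letI := iC
  letI := iA
  let α : Γ(S, W.1) →+* C := algebraMap _ C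
  have hα : α.Smooth := RingHom.smooth_algebraMap.2 hsC
  have hk : idl 𝒥 W α ^ (0 + 1) = RingHom.ker ψ := by
    rw [hψk, hI, idl, Ideal.map_pow]
  have hxg : x ∈ X₀.basicOpen g := by
    have h1 : hU₁.primeIdealOf ⟨x, hxU₁⟩ ∈ hU₁.fromSpec ⁻¹ᵁ X₀.basicOpen g := by
      rw [hU₁.fromSpec_preimage_basicOpen]; exact hg
    have h2 := hU₁.fromSpec_primeIdealOf ⟨x, hxU₁⟩
    have h3 : hU₁.fromSpec (hU₁.primeIdealOf ⟨x, hxU₁⟩) ∈ X₀.basicOpen g := h1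
    rwa [h2] at h3
  haveI := hU₁.isLocalization_basicOpen g
  let ε : Localization.Away g ≃ₐ[Γ(X₀, U₁)] Γ(X₀, X₀.basicOpen g) :=
    IsLocalization.algEquiv (Submonoid.powers g) _ _
  let k : C ⧸ RingHom.ker ψ ≃+* Localization.Away g := RingHom.quotientKerEquivOfSurjective hψs
  let E : Γ(X₀, X₀.basicOpen g) ≃+* C ⧸ idl 𝒥 W α ^ (0 + 1) :=
    ε.symm.toRingEquiv.trans (k.symm.trans (Ideal.quotEquivOfEq hk.symm))
  have hUle : X₀.basicOpen g ≤ U₁ := X₀.basicOpen_le g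
  refine ⟨X₀.basicOpen g, hU₁.basicOpen g, hxg, hUle.trans (fun z hz => (hle hz).1), hUle.trans e₁, C, iC, α, hα,
    E.toCommRingCatIso, ?_⟩
  have e2 : (a ≫ c).appLE W.1 (X₀.basicOpen g) (hUle.trans e₁) =
      (a ≫ c).appLE W.1 U₁ e₁ ≫ X₀.presheaf.map (homOfLE hUle).op :=
    (Scheme.Hom.appLE_map _ e₁ _).symm
  rw [e2]
  refine CommRingCat.hom_ext (RingHom.ext fun r => ?_)
  change Ideal.quotEquivOfEq hk.symm (k.symm (ε.symm (algebraMap Γ(X₀, U₁) Γ(X₀, X₀.basicOpen g)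
    (algebraMap Γ(S, W.1) Γ(X₀, U₁) r)))) = _
  rw [AlgEquiv.commutes, ← IsScalarTower.algebraMap_apply, ← ψ.commutes]
  have e3 : k.symm (ψ (algebraMap _ C r)) = Ideal.Quotient.mk _ (algebraMap _ C r) := by
    rw [RingEquiv.symm_apply_eq]; rfl
  rw [e3]
  rfl

instance mono_specQuot {A : Type u} [CommRing A] (I : Ideal A) (n : ℕ) : Mono (CohB1.specQuot I n) :=
  haveI : IsClosedImmersion (Spec.map (CommRingCat.ofHom (Ideal.Quotient.mk (I ^ (n + 1))))) :=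
    IsClosedImmersion.spec_of_surjective _ Ideal.Quotient.mk_surjective
  inferInstanceAs (Mono (Spec.map (CommRingCat.ofHom (Ideal.Quotient.mk (I ^ (n + 1))))))

theorem affineIso_hom_ι {X : Scheme.{u}} {U : X.Opens} (hU : IsAffineOpen U) {R : CommRingCat.{u}}
    (σ : Γ(X, U) ≅ R) :
    (Scheme.Spec.mapIso σ.op ≪≫ hU.isoSpec.symm).hom ≫ U.ι = Spec.map σ.hom ≫ hU.fromSpec := by
  rw [Iso.trans_hom, Category.assoc, Iso.symm_hom, IsAffineOpen.isoSpec_inv_ι]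
  rfl

/-- Local smooth formal liftings of morphisms. -/
theorem exists_lifting {X₀ Y₀ : Scheme.{u}}
    (a : X₀ ⟶ (FSch.completionAlong S 𝒥).X 0) (b : Y₀ ⟶ (FSch.completionAlong S 𝒥).X 0)
    [AlgebraicGeometry.Smooth a] [AlgebraicGeometry.Smooth b] (f : X₀ ⟶ Y₀) (w : f ≫ b = a) (x : X₀) :
    ∃ (U₀ : X₀.Opens) (V₀ : Y₀.Opens) (_ : x ∈ U₀) (hUV : U₀ ≤ f ⁻¹ᵁ V₀)
      (𝔘 𝔙 : FSch.Sys.{u}) (p : 𝔘 ⟶ FSch.completionAlong S 𝒥) (q : 𝔙 ⟶ FSch.completionAlong S 𝒥)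
      (Φ : 𝔘 ⟶ 𝔙) (eU : 𝔘.X 0 ≅ U₀.toScheme) (eV : 𝔙.X 0 ≅ V₀.toScheme),
      Φ ≫ q = p ∧ FSch.IsAdicHom p ∧ FSch.IsAdicHom q ∧
      (∀ n : ℕ, AlgebraicGeometry.Smooth ((p : FSch.Hom 𝔘 _).app n)) ∧
      (∀ n : ℕ, AlgebraicGeometry.Smooth ((q : FSch.Hom 𝔙 _).app n)) ∧
      eU.hom ≫ U₀.ι ≫ a = (p : FSch.Hom 𝔘 _).app 0 ∧
      eV.hom ≫ V₀.ι ≫ b = (q : FSch.Hom 𝔙 _).app 0 ∧
      (Φ : FSch.Hom 𝔘 𝔙).app 0 ≫ eV.hom = eU.hom ≫ f.resLE V₀ U₀ hUV := by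
  subst w
  set c := FSch.completionToX S 𝒥 0
  obtain ⟨W', hW', hyW, -⟩ := exists_isAffineOpen_mem_and_subset
    (show (b ≫ c) (f x) ∈ (⊤ : S.Opens) from trivial)
  let W : S.affineOpens := ⟨W', hW'⟩
  obtain ⟨V, hV, hyV, -, eV', D, iD, β, hβ, τ, hτ⟩ := exists_chart 𝒥 b (f x) ⊤ trivial W hyW
  obtain ⟨U, hU, hxU, hUV, eU', C, iCR, α, hα, σ, hσ⟩ :=
    exists_chart 𝒥 (f ≫ b) x (f ⁻¹ᵁ V) hyV W (by simpa using hyW)
  have key : (b ≫ c).appLE W.1 V eV' ≫ f.appLE V U hUV = ((f ≫ b) ≫ c).appLE W.1 U eU' := by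
    rw [Scheme.Hom.appLE_comp_appLE]
    congr 1
  letI := iD
  letI := iCR
  letI : Algebra Γ(S, W.1) D := β.toAlgebra
  letI : Algebra Γ(S, W.1) C := α.toAlgebra
  haveI : Algebra.Smooth Γ(S, W.1) D := hβ
  let ψc : CommRingCat.of D ⟶ CommRingCat.of (C ⧸ idl 𝒥 W α ^ (0 + 1)) :=
    CommRingCat.ofHom (Ideal.Quotient.mk _) ≫ τ.inv ≫ f.appLE V U hUV ≫ σ.hom
  have hψc : CommRingCat.ofHom β ≫ ψc = CommRingCat.ofHom ((Ideal.Quotient.mk _).comp α) := by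
    have h1 : CommRingCat.ofHom β ≫ CommRingCat.ofHom (Ideal.Quotient.mk _) = (b ≫ c).appLE W.1 V eV' ≫ τ.hom :=
      hτ.symm
    simp only [ψc]
    rw [reassoc_of% h1, Iso.hom_inv_id_assoc, ← Category.assoc, key]
    exact hσ
  let ψ₀ : D →ₐ[Γ(S, W.1)] C ⧸ idl 𝒥 W α ^ (0 + 1) :=
    { ψc.hom with commutes' := fun r => congrArg (fun t => t.hom r) hψc }
  obtain ⟨ψ, hψ0, hψc'⟩ := exists_lifts (idl 𝒥 W α) ψ₀
  obtain ⟨Φ, hΦ, hΦ0⟩ := exists_hom 𝒥 W α β (fun n => (ψ n).toRingHom)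
    (fun n => RingHom.ext fun r => (ψ n).commutes r) hψc'
  refine ⟨U, V, hxU, hUV, _, _, toCompletion 𝒥 W α, toCompletion 𝒥 W β, Φ,
    Scheme.Spec.mapIso σ.op ≪≫ hU.isoSpec.symm, Scheme.Spec.mapIso τ.op ≪≫ hV.isoSpec.symm, hΦ,
    isAdicHom 𝒥 W α, isAdicHom 𝒥 W β, smooth_level 𝒥 W α hα, smooth_level 𝒥 W β hβ, ?_, ?_, ?_⟩
  · rw [← cancel_mono c]
    change _ = levelHom 𝒥 W α 0 ≫ c
    rw [levelHom_toX]
    simp only [Iso.trans_hom, Category.assoc, Functor.mapIso_hom, Iso.symm_hom, Iso.op_hom]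
    erw [IsAffineOpen.isoSpec_inv_ι_assoc, ← Category.assoc f b c]
    rw [← IsAffineOpen.SpecMap_appLE_fromSpec ((f ≫ b) ≫ c) W.2 hU eU']
    erw [← Category.assoc, ← Spec.map_comp, hσ]
    rw [← Category.assoc, CohB1.specQuot, ← Spec.map_comp]
    rfl
  · rw [← cancel_mono c]
    change _ = levelHom 𝒥 W β 0 ≫ c
    rw [levelHom_toX]
    simp only [Iso.trans_hom, Category.assoc, Functor.mapIso_hom, Iso.symm_hom, Iso.op_hom]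
    erw [IsAffineOpen.isoSpec_inv_ι_assoc]
    rw [← IsAffineOpen.SpecMap_appLE_fromSpec (b ≫ c) W.2 hV eV']
    erw [← Category.assoc, ← Spec.map_comp, hτ]
    rw [← Category.assoc, CohB1.specQuot, ← Spec.map_comp]
    rfl
  · let Φ₀ : Spec (CommRingCat.of (C ⧸ idl 𝒥 W α ^ (0 + 1))) ⟶ Spec (CommRingCat.of (D ⧸ idl 𝒥 W β ^ (0 + 1))) :=
      (Φ : FSch.Hom _ _).app 0
    have hΦ1 : Φ₀ = Spec.map (τ.inv ≫ f.appLE V U hUV ≫ σ.hom) := by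
      rw [← cancel_mono (CohB1.specQuot (idl 𝒥 W β) 0)]
      refine hΦ0.trans ?_
      rw [hψ0]
      exact Spec.map_comp (CommRingCat.ofHom (Ideal.Quotient.mk _)) _
    rw [← cancel_mono V.ι]
    have lV := affineIso_hom_ι hV τ
    have lU := affineIso_hom_ι hU σ
    have r1 : (Φ₀ ≫ (Scheme.Spec.mapIso τ.op ≪≫ hV.isoSpec.symm).hom) ≫ V.ι =
        ((Scheme.Spec.mapIso σ.op ≪≫ hU.isoSpec.symm).hom ≫ f.resLE V U hUV) ≫ V.ι := by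
      rw [Category.assoc Φ₀, Category.assoc _ (f.resLE V U hUV), Scheme.Hom.resLE_comp_ι, lV, ← Category.assoc _ U.ι,
        lU, Category.assoc, ← IsAffineOpen.SpecMap_appLE_fromSpec f hV hU hUV, hΦ1, ← Category.assoc,
        ← Spec.map_comp, Iso.hom_inv_id_assoc, ← Category.assoc, ← Spec.map_comp]
    exact r1

end Groth.Agent.FSchLift
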